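/-
The dichotomy theorem without connectivity hypothesis: in a group of non-component type the closure of the
cores over a normal four-subgroup of a Sylow 2-subgroup is normalised by a strongly embedded subgroup or is
trivial.
-/
import Cfsg.Agent.BenderSE.Dependents.FourConnected
import Cfsg.Agent.BenderSE.Dependents.SingleClass
import Cfsg.Agent.BenderSE.Thick.ExtremalTransfer
import Cfsg.Agent.PGroups.NormalFour

set_option autoImplicit false
set_option linter.unusedSectionVars false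
set_option linter.style.haveILetI false

namespace Cfsg.Lib.BenderSE.Thick

open Subgroup Cfsg.Lib.Components Cfsg.Lib.Sft Cfsg.Lib.Misc.FourConnected Cfsg.Lib.BenderSE.FourConn
open scoped Pointwise

universe u

variable {G : Type u} [Group G] [Finite G]

/-- the closure of the cores -/
abbrev Cl (V : Subgroup G) : Subgroup G := closureOf (Cfsg.centralizerPPrimeCore 2) V

theorem Cl_conj (g : G) (V : Subgroup G) : Cl (FourConn.conjBy g V) = FourConn.conjBy g (Cl V) := by
  simp only [Cl, closureOf, FourConn.conjBy, Subgroup.map_iSup]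
  refine le_antisymm (iSup_le ?_) (iSup_le fun e => ?_)
  · rintro ⟨_, ⟨e, he, rfl⟩, he1⟩
    refine le_trans ?_ (le_iSup _ (⟨e, he, fun h => he1 (by rw [h]; exact map_one _)⟩ : {e : G // e ∈ V ∧ e ≠ 1}))
    exact (centralizerPPrimeCore_map_equiv (MulAut.conj g) e).ge
  · rw [centralizerPPrimeCore_map_equiv (MulAut.conj g) e.1]
    exact le_iSup (fun e : {e : G // e ∈ V.map (MulAut.conj g).toMonoidHom ∧ e ≠ 1} =>
      Cfsg.centralizerPPrimeCore 2 e.1) ⟨MulAut.conj g e.1, ⟨e.1, e.2.1, rfl⟩,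
        fun h => e.2.2 ((MulAut.conj g).injective (by rw [h, map_one]))⟩

theorem elementary_conj (g : G) {A : Subgroup G} (hA : Cfsg.IsElementaryAbelian 2 A) :
    Cfsg.IsElementaryAbelian 2 (FourConn.conjBy g A) := by
  haveI := hA.1
  refine ⟨⟨⟨?_⟩⟩, ?_⟩
  · rintro ⟨_, a, ha, rfl⟩ ⟨_, b, hb, rfl⟩
    refine Subtype.ext (show MulAut.conj g a * MulAut.conj g b = MulAut.conj g b * MulAut.conj g a from ?_)
    rw [← map_mul, ← map_mul]
    exact congrArg (MulAut.conj g) (congrArg Subtype.val (mul_comm' (⟨a, ha⟩ : A) ⟨b, hb⟩))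
  · rintro _ ⟨a, ha, rfl⟩
    rw [← map_pow, hA.2 a ha, map_one]

theorem card_conjBy (g : G) (A : Subgroup G) : Nat.card (FourConn.conjBy g A) = Nat.card A :=
  card_map_of_injective (MulAut.conj g).injective

theorem comm_elementary {A : Subgroup G} (hA : Cfsg.IsElementaryAbelian 2 A) {a b : G} (ha : a ∈ A) (hb : b ∈ A) :
    a * b = b * a := by
  haveI := hA.1
  exact congrArg Subtype.val (mul_comm' (⟨a, ha⟩ : A) ⟨b, hb⟩)

theorem sq_elementary {A : Subgroup G} (hA : Cfsg.IsElementaryAbelian 2 A) {a : G} (ha : a ∈ A) : a * a = 1 := by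
  rw [← pow_two]; exact hA.2 a ha

theorem elementary_zpowers {t : G} (ht : t * t = 1) : Cfsg.IsElementaryAbelian 2 (zpowers t) := by
  refine ⟨inferInstance, fun x hx => ?_⟩
  obtain ⟨k, rfl⟩ := mem_zpowers_iff.1 hx
  rw [← zpow_natCast, ← zpow_mul, mul_comm, zpow_mul, zpow_natCast, pow_two, ht, one_zpow]

theorem exists_klein_le {A : Subgroup G} (hA : Cfsg.IsElementaryAbelian 2 A) (h : 2 < Nat.card A) :
    ∃ V : Subgroup G, IsKleinFour V ∧ V ≤ A :=
  exists_klein_of_card (fun _ hx => sq_elementary hA hx) (fun _ hx _ hy => comm_elementary hA hx hy) h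

/-- a four-subgroup and a commuting elementary subgroup outside it give order eight -/
theorem eight_sup {V Y : Subgroup G} (hV : IsKleinFour V) (hY : Cfsg.IsElementaryAbelian 2 Y)
    (hc : ∀ a ∈ V, ∀ b ∈ Y, a * b = b * a) (hne : ¬ Y ≤ V) :
    Cfsg.IsElementaryAbelian 2 (V ⊔ Y) ∧ 8 ≤ Nat.card ↥(V ⊔ Y) := by
  haveI : Fact (Nat.Prime 2) := ⟨Nat.prime_two⟩
  have hA := Cfsg.Lib.Sft.elementary_sup (p := 2) (elementary_of_klein hV) hY hc
  refine ⟨hA, ?_⟩
  obtain ⟨k, hk⟩ := IsPGroup.iff_card.1 (isPGroup_elementary hA)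
  rw [hk]
  by_contra h
  have hk2 : k ≤ 2 := by
    by_contra hk'
    exact h ((show (8 : ℕ) = 2 ^ 3 by norm_num).le.trans (Nat.pow_le_pow_right two_pos (by omega)))
  have h4 : Nat.card ↥(V ⊔ Y) ≤ 4 := by rw [hk]; exact (Nat.pow_le_pow_right two_pos hk2).trans (by norm_num)
  exact hne ((eq_of_le_of_card_ge (le_sup_left : V ≤ V ⊔ Y) (h4.trans (card_klein hV).ge)).symm ▸ le_sup_right)

theorem klein_cases {V : Subgroup G} (hV : IsKleinFour V) {a b x : G} (ha : a ∈ V) (hb : b ∈ V) (ha1 : a ≠ 1)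
    (hb1 : b ≠ 1) (hab : a ≠ b) (hx : x ∈ V) : x = 1 ∨ x = a ∨ x = b ∨ x = a * b := by
  classical
  haveI := hV
  by_contra h
  push Not at h
  have hsub : ({1, a, b, a * b, x} : Set G) ⊆ V := by
    intro y hy
    rcases hy with rfl | rfl | rfl | rfl | rfl
    exacts [one_mem V, ha, hb, mul_mem ha hb, hx]
  have := Set.ncard_le_ncard hsub
  have h1 : a * b ≠ 1 := fun e => hab (mul_right_cancel (e.trans (sq_of_klein hb).symm))
  have h2 : a * b ≠ a := fun e => hb1 (mul_eq_left.1 e)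
  have h3 : a * b ≠ b := fun e => ha1 (mul_eq_right.1 e)
  rw [← Nat.card_coe_set_eq (V : Set G), SetLike.coe_sort_coe, card_klein hV,
    Set.ncard_insert_of_notMem (by simp [ha1.symm, hb1.symm, h1.symm, h.1.symm]),
    Set.ncard_insert_of_notMem (by simp [hab, h2.symm, h.2.1.symm]),
    Set.ncard_insert_of_notMem (by simp [h3.symm, h.2.2.1.symm]), Set.ncard_pair h.2.2.2.symm] at this
  omega

/-- a four-subgroup normal in the Sylow 2-subgroup `S` -/
structure Base (S : Sylow 2 G) (U : Subgroup G) : Prop where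
  klein : IsKleinFour U
  le : U ≤ (S : Subgroup G)
  normal : ∀ y ∈ (S : Subgroup G), ∀ u ∈ U, y * u * y⁻¹ ∈ U

theorem exists_normal_base (S : Sylow 2 G) (h3 : ¬ Cfsg.PRankLE 2 2 G) : ∃ U : Subgroup G, Base S U := by
  haveI : Fact (Nat.Prime 2) := ⟨Nat.prime_two⟩
  obtain ⟨E, hES, hE, hE8⟩ := exists_eight S h3
  have hE' : IsPGroup 2 (E.subgroupOf (S : Subgroup G)) := (isPGroup_elementary hE).comap_subtype
  obtain ⟨k, hk⟩ := IsPGroup.iff_card.1 hE'
  have hk3 : 3 ≤ k := by
    rw [← Nat.card_congr (subgroupOfEquivOfLe hES).toEquiv, hk] at hE8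
    exact (Nat.pow_le_pow_iff_right one_lt_two).1 ((by norm_num : 2 ^ 3 ≤ 8).trans hE8)
  obtain ⟨E₀, hE₀⟩ := Sylow.exists_subgroup_card_pow_prime 2 (G := E.subgroupOf (S : Subgroup G)) (n := 3)
    (hk ▸ pow_dvd_pow 2 hk3)
  obtain ⟨U, hUn, hU⟩ := Cfsg.Lib.PGroups.exists_normal_four S.2 (E₀.map (E.subgroupOf (S : Subgroup G)).subtype)
    (by rw [card_map_of_injective (Subgroup.subtype_injective _), hE₀]; norm_num)
    (by rintro _ ⟨x, -, rfl⟩; exact Subtype.ext (sq_elementary hE (mem_subgroupOf.1 x.2)))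
  refine ⟨U.map (S : Subgroup G).subtype, klein_map (Subgroup.subtype_injective _) hU, map_subtype_le _, ?_⟩
  rintro y hy _ ⟨u, hu, rfl⟩
  exact ⟨_, hUn.conj_mem u hu ⟨y, hy⟩, rfl⟩

namespace Base

variable {S : Sylow 2 G} {U : Subgroup G} (hB : Base S U)

include hB

theorem smul (g : G) : Base (g • S) (FourConn.conjBy g U) := by
  refine ⟨klein_conj g hB.klein, Subgroup.map_mono hB.le, ?_⟩
  rintro _ ⟨y, hy, rfl⟩ _ ⟨u, hu, rfl⟩
  refine ⟨y * u * y⁻¹, hB.normal y hy u hu, ?_⟩
  simp [mul_assoc]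

theorem exists_z : ∃ z ∈ U, orderOf z = 2 ∧ ∀ y ∈ (S : Subgroup G), y * z = z * y := by
  haveI : Fact (Nat.Prime 2) := ⟨Nat.prime_two⟩
  haveI := hB.klein
  haveI : (U.subgroupOf (S : Subgroup G)).Normal :=
    ⟨fun u hu y => mem_subgroupOf.2 (hB.normal y y.2 u (mem_subgroupOf.1 hu))⟩
  have hne : U.subgroupOf (S : Subgroup G) ≠ ⊥ := fun h => by
    have := Nat.card_congr (subgroupOfEquivOfLe hB.le).toEquiv
    rw [h, Subgroup.card_bot, card_klein hB.klein] at this
    omega
  obtain ⟨w, hw, hwc, hwo⟩ := Cfsg.Lib.PGroups.exists_mem_center_of_normal_ne_bot S.2 hne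
  exact ⟨w, mem_subgroupOf.1 hw, by rw [Subgroup.orderOf_coe, hwo],
    fun y hy => congrArg Subtype.val (mem_center_iff.1 hwc ⟨y, hy⟩)⟩

theorem exists_u {z : G} : ∃ u ∈ U, u ≠ 1 ∧ u ≠ z := by
  by_contra h
  push Not at h
  have hsub : (U : Set G) ⊆ {1, z} := fun x hx => by
    by_cases hx1 : x = 1
    · exact Or.inl hx1
    · exact Or.inr (h x hx hx1)
  have h2 := (Set.ncard_le_ncard hsub).trans (Set.ncard_insert_le _ _)
  rw [← Nat.card_coe_set_eq, SetLike.coe_sort_coe, card_klein hB.klein, Set.ncard_singleton] at h2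
  omega

theorem comm_or {z : G} (hzU : z ∈ U) (hz1 : z ≠ 1) (hzc : ∀ y ∈ (S : Subgroup G), y * z = z * y)
    {y : G} (hy : y ∈ (S : Subgroup G)) {u : G} (hu : u ∈ U) :
    y * u * y⁻¹ = u ∨ y * u * y⁻¹ = u * z := by
  haveI := hB.klein
  by_cases hu1 : u = 1
  · exact Or.inl (by rw [hu1]; group)
  by_cases huz : u = z
  · exact Or.inl (by rw [huz, hzc y hy, mul_inv_cancel_right])
  rcases klein_cases hB.klein hu hzU hu1 hz1 huz (hB.normal y hy u hu) with e | e | e | e
  · exact absurd (conj_eq_one_iff.1 e) hu1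
  · exact Or.inl e
  · refine absurd ?_ huz
    rw [mul_inv_eq_iff_eq_mul, ← hzc y hy] at e
    exact mul_left_cancel e
  · exact Or.inr e

/-- the centraliser of `u` in `S` has index at most two -/
theorem index_or {z : G} (hzU : z ∈ U) (hz1 : z ≠ 1) (hzc : ∀ y ∈ (S : Subgroup G), y * z = z * y)
    {u : G} (hu : u ∈ U) :
    (∀ y ∈ (S : Subgroup G), y * u * y⁻¹ = u) ∨
      ((S : Subgroup G) ⊓ centralizer ({u} : Set G)).relIndex (S : Subgroup G) = 2 := by
  refine or_iff_not_imp_left.2 fun h => ?_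
  push Not at h
  obtain ⟨a, ha, hau⟩ := h
  have hau' := (hB.comm_or hzU hz1 hzc ha hu).resolve_left hau
  have hmem : ∀ y ∈ (S : Subgroup G), (y ∈ (S : Subgroup G) ⊓ centralizer ({u} : Set G) ↔ y * u * y⁻¹ = u) :=
    fun y hy => ⟨fun h => by rw [mem_centralizer_singleton_iff.1 h.2, mul_inv_cancel_right],
      fun h => ⟨hy, mem_centralizer_singleton_iff.2 (mul_inv_eq_iff_eq_mul.1 h)⟩⟩
  haveI := hB.klein
  have hzz := sq_of_klein hzU
  rw [Subgroup.relIndex_eq_two_iff]
  refine ⟨a, ha, fun b hb => ?_⟩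
  have hba : b * a * u * (b * a)⁻¹ = b * u * b⁻¹ * z := by
    rw [show b * a * u * (b * a)⁻¹ = b * (a * u * a⁻¹) * b⁻¹ by group, hau',
      show b * (u * z) * b⁻¹ = b * u * (z * b⁻¹) by group, ← hzc b⁻¹ (inv_mem hb), ← mul_assoc]
  rcases hB.comm_or hzU hz1 hzc hb hu with e | e
  · refine Or.inr ⟨(hmem b hb).2 e, fun h => ?_⟩
    have h' := (hmem _ (mul_mem hb ha)).1 h
    rw [hba, e] at h'
    exact hz1 (mul_eq_left.1 h')
  · refine Or.inl ⟨(hmem _ (mul_mem hb ha)).2 (by rw [hba, e, mul_assoc, hzz, mul_one]), fun h => hau ?_⟩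
    have h' := (hmem b hb).1 h
    rw [e] at h'
    rw [hau', h']

theorem exists_klein_commuting {A : Subgroup G} (hAS : A ≤ (S : Subgroup G))
    (hA : Cfsg.IsElementaryAbelian 2 A) (hA8 : 8 ≤ Nat.card A) :
    ∃ W : Subgroup G, IsKleinFour W ∧ W ≤ A ∧ ∀ a ∈ W, ∀ b ∈ U, a * b = b * a := by
  obtain ⟨z, hzU, hz, hzc⟩ := hB.exists_z
  haveI := hB.klein
  obtain ⟨u, hu, hu1, huz⟩ := hB.exists_u (z := z)
  set K := A ⊓ centralizer ({u} : Set G)
  have hcard : 2 < Nat.card K := by
    rcases hB.index_or hzU (ne_one_of_two hz) hzc hu with h | h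
    · rw [show K = A from inf_eq_left.2 fun a ha =>
        mem_centralizer_singleton_iff.2 (mul_inv_eq_iff_eq_mul.1 (h a (hAS ha)))]
      omega
    · have h1 : K.relIndex A ≤ 2 := by
        rw [← h, show K.relIndex A = ((S : Subgroup G) ⊓ centralizer ({u} : Set G)).relIndex A from by
          rw [← Subgroup.inf_relIndex_right, ← Subgroup.inf_relIndex_right ((S : Subgroup G) ⊓ _) A]
          congr 1
          ext x
          exact ⟨fun h => ⟨⟨hAS h.2, h.1.2⟩, h.2⟩, fun h => ⟨⟨h.2, h.1.2⟩, h.2⟩⟩]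
        exact relIndex_le_of_le_right hAS (by rw [h]; norm_num)
      have h2 := Subgroup.relIndex_mul_relIndex ⊥ K A bot_le inf_le_left
      simp only [relIndex_bot_left] at h2
      have := Nat.mul_le_mul_left (Nat.card K) h1
      omega
  obtain ⟨W, hW, hWK⟩ := exists_klein_le (A := K) ⟨⟨⟨fun x y => Subtype.ext (comm_elementary hA x.2.1 y.2.1)⟩⟩,
    fun x hx => hA.2 x hx.1⟩ hcard
  refine ⟨W, hW, hWK.trans inf_le_left, fun a ha b hb => ?_⟩
  have hau : a * u = u * a := mem_centralizer_singleton_iff.1 (hWK ha).2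
  have haz : a * z = z * a := hzc a (hAS (hWK ha).1)
  rcases klein_cases hB.klein hu hzU hu1 (ne_one_of_two hz) huz hb with rfl | rfl | rfl | rfl
  · rw [mul_one, one_mul]
  · exact hau
  · exact haz
  · exact Commute.mul_right hau haz

theorem exists_eight_of_comm {t : G} (htS : t ∈ (S : Subgroup G)) (ht : t * t = 1)
    (htU : ∀ b ∈ U, t * b = b * t) (h3 : ¬ Cfsg.PRankLE 2 2 G) :
    ∃ A : Subgroup G, A ≤ (S : Subgroup G) ∧ Cfsg.IsElementaryAbelian 2 A ∧ 8 ≤ Nat.card A ∧ U ≤ A ∧ t ∈ A := by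
  by_cases htU' : t ∈ U
  · obtain ⟨E, hES, hE, hE8⟩ := exists_eight S h3
    obtain ⟨W, hW, hWE, hWU⟩ := hB.exists_klein_commuting hES hE hE8
    by_cases hUE : U ≤ E
    · exact ⟨E, hES, hE, hE8, hUE, hUE htU'⟩
    obtain ⟨h1, h2⟩ := eight_sup hW (elementary_of_klein hB.klein) hWU
      (fun h => hUE (h.trans hWE))
    exact ⟨W ⊔ U, sup_le (hWE.trans hES) hB.le, h1, h2, le_sup_right, le_sup_right (a := W) htU'⟩
  · obtain ⟨h1, h2⟩ := eight_sup hB.klein (elementary_zpowers ht)
      (fun a ha b hb => by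
        obtain ⟨k, rfl⟩ := mem_zpowers_iff.1 hb
        exact (Commute.zpow_right (show Commute a t from (htU a ha).symm) k).eq)
      (fun h => htU' (h (mem_zpowers t)))
    exact ⟨U ⊔ zpowers t, sup_le hB.le (zpowers_le.2 htS), h1, h2, le_sup_left,
      le_sup_right (a := U) (mem_zpowers t)⟩

end Base

variable (hc : ¬ Cfsg.IsComponentType G)

include hc

theorem balance_of_nonComponent {a b : G} (ha : orderOf a = 2) (hb : orderOf b = 2) (hab : a * b = b * a) :
    Cfsg.centralizerPPrimeCore 2 a ⊓ centralizer {b} ≤ Cfsg.centralizerPPrimeCore 2 b :=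
  Cfsg.Lib.Misc.ConstrainedCores.balance (constrained_of_nonComponent hc) ha hb hab

theorem Cl_eight {A V : Subgroup G} (hA : Cfsg.IsElementaryAbelian 2 A) (hA8 : 8 ≤ Nat.card A)
    (hV : IsKleinFour V) (hVA : V ≤ A) : Cl V = Cl A :=
  closure_eq (fun Y h => Cfsg.Agent.PF.isSolvable_of_odd Y h)
    (fun _ _ ha hb hab => balance_of_nonComponent hc ha hb hab) hA hA8 hVA (card_klein hV).ge

theorem exists_member_cl {A : Subgroup G} (hA : Cfsg.IsElementaryAbelian 2 A) (hA8 : 8 ≤ Nat.card A) :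
    ∃ X : Subgroup G, X ∈ Cfsg.signalizerFamily 2 A (Cfsg.centralizerPPrimeCore 2) ∧ Cl A ≤ X := by
  haveI : Fact (Nat.Prime 2) := ⟨Nat.prime_two⟩
  obtain ⟨X, hX, hle⟩ := exists_member hA hA8 (functor_of_equivariant
    (θ := Cfsg.centralizerPPrimeCore 2)
    (fun a _ => functor_conditions (fun Y h => Cfsg.Agent.PF.isSolvable_of_odd Y h) a)
    (fun a g _ => (centralizerPPrimeCore_map_equiv (MulAut.conj g) a).symm)
    (fun a b ha hb hab => balance_of_nonComponent hc ha.1 hb.1 hab) hA hA8)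
  exact ⟨X, hX, iSup_le fun e => hle e.1 e.2.1 e.2.2⟩

theorem odd_cl {A : Subgroup G} (hA : Cfsg.IsElementaryAbelian 2 A) (hA8 : 8 ≤ Nat.card A) :
    Odd (Nat.card (Cl A)) := by
  obtain ⟨X, hX, hle⟩ := exists_member_cl hc hA hA8
  exact Nat.not_even_iff_odd.mp fun he => hX.2.1 ((even_iff_two_dvd.mp he).trans (card_dvd_of_le hle))

theorem cl_inf_centralizer_le {A : Subgroup G} (hA : Cfsg.IsElementaryAbelian 2 A) (hA8 : 8 ≤ Nat.card A)
    {a : G} (ha : a ∈ A) (ha1 : a ≠ 1) :
    Cl A ⊓ centralizer ({a} : Set G) ≤ Cfsg.centralizerPPrimeCore 2 a := by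
  obtain ⟨X, hX, hle⟩ := exists_member_cl hc hA hA8
  exact (inf_le_inf_right _ hle).trans (hX.2.2.2 a ha ha1)

variable (S : Sylow 2 G) (U : Subgroup G) (hB : Base S U)

include hB

theorem cl_in_sylow {A V : Subgroup G} (hAS : A ≤ (S : Subgroup G)) (hA : Cfsg.IsElementaryAbelian 2 A)
    (hA8 : 8 ≤ Nat.card A) (hV : IsKleinFour V) (hVA : V ≤ A) : Cl V = Cl U := by
  obtain ⟨W, hW, hWA, hWU⟩ := hB.exists_klein_commuting hAS hA hA8
  rw [Cl_eight hc hA hA8 hV hVA, ← Cl_eight hc hA hA8 hW hWA]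
  exact closure_step (fun Y h => Cfsg.Agent.PF.isSolvable_of_odd Y h)
    (fun _ _ ha hb hab => balance_of_nonComponent hc ha hb hab) ⟨hW, hB.klein, hWU⟩

omit hc in
theorem sylow_le_norm : (S : Subgroup G) ≤ normalizer (Cl U : Set G) := by
  intro x hx
  refine Cfsg.Lib.Transfer.map_conj_eq_self_iff.1 ?_
  rw [← FourConn.conjBy, ← Cl_conj]
  congr 1
  refine eq_of_le_of_card_ge ?_ (card_conjBy x U).ge
  rintro _ ⟨u, hu, rfl⟩
  exact hB.normal x hx u hu

variable (h3 : ¬ Cfsg.PRankLE 2 2 G)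

include h3

theorem odd_base : Odd (Nat.card (Cl U)) := by
  obtain ⟨A, hAS, hA, hA8, hUA, -⟩ := hB.exists_eight_of_comm (one_mem _) (one_mul 1)
    (fun b _ => by rw [one_mul, mul_one]) h3
  rw [Cl_eight hc hA hA8 hB.klein hUA]
  exact odd_cl hc hA hA8

theorem normalizer_sylow_le : normalizer ((S : Subgroup G) : Set G) ≤ normalizer (Cl U : Set G) := by
  intro g hg
  obtain ⟨E, hES, hE, hE8⟩ := exists_eight S h3
  obtain ⟨V, hV, hVE⟩ := exists_klein_le hE (by omega)
  refine Cfsg.Lib.Transfer.map_conj_eq_self_iff.1 ?_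
  rw [← FourConn.conjBy]
  conv_lhs => rw [← cl_in_sylow hc S U hB hES hE hE8 hV hVE]
  rw [← Cl_conj]
  refine cl_in_sylow hc S U hB ?_ (elementary_conj g hE) (hE8.trans (card_conjBy g E).ge) (klein_conj g hV)
    (Subgroup.map_mono hVE)
  rintro _ ⟨x, hx, rfl⟩
  exact (mem_normalizer_iff.1 hg x).1 (hES hx)

/-- the four-subgroups of order-eight subgroups of the normaliser -/
theorem cl_in_normalizer {A V : Subgroup G} (hAN : A ≤ normalizer (Cl U : Set G))
    (hA : Cfsg.IsElementaryAbelian 2 A) (hA8 : 8 ≤ Nat.card A) (hV : IsKleinFour V) (hVA : V ≤ A) :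
    Cl V = Cl U := by
  obtain ⟨m, hm, hAm, -⟩ := SingleClass.exists_smul_ge S (sylow_le_norm S U hB) (isPGroup_elementary hA) hAN
  rw [cl_in_sylow hc (m • S) _ (hB.smul m) hAm hA hA8 hV hVA, Cl_conj]
  exact Cfsg.Lib.Transfer.map_conj_eq_self_iff.2 hm

theorem mem_of_eights {A : Subgroup G} {g : G} (hAN : A ≤ normalizer (Cl U : Set G))
    (hgA : FourConn.conjBy g A ≤ normalizer (Cl U : Set G)) (hA : Cfsg.IsElementaryAbelian 2 A) (hA8 : 8 ≤ Nat.card A) :
    g ∈ normalizer (Cl U : Set G) := by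
  obtain ⟨V, hV, hVA⟩ := exists_klein_le hA (by omega)
  refine Cfsg.Lib.Transfer.map_conj_eq_self_iff.1 ?_
  rw [← FourConn.conjBy]
  conv_lhs => rw [← cl_in_normalizer hc S U hB h3 hAN hA hA8 hV hVA]
  rw [← Cl_conj]
  exact cl_in_normalizer hc S U hB h3 hgA (elementary_conj g hA) (hA8.trans (card_conjBy g A).ge)
    (klein_conj g hV) (Subgroup.map_mono hVA)

/-- if `z` is the only central involution, `U` is normal in every Sylow 2-subgroup of the centraliser of `u` -/
theorem exists_sylow_centralizer {z : G} (hzU : z ∈ U) (hz : orderOf z = 2)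
    (hzc : ∀ y ∈ (S : Subgroup G), y * z = z * y)
    (huniq : ∀ x ∈ (S : Subgroup G), x * x = 1 → (∀ y ∈ (S : Subgroup G), y * x = x * y) → x = 1 ∨ x = z)
    {u : G} (hu : u ∈ U) (hu1 : u ≠ 1) (huz : u ≠ z) :
    ∃ P : Sylow 2 ↥(centralizer ({u} : Set G)),
      (∀ x ∈ (S : Subgroup G) ⊓ centralizer ({u} : Set G),
        x ∈ (P : Subgroup ↥(centralizer ({u} : Set G))).map (centralizer ({u} : Set G)).subtype) ∧
      ∀ y ∈ (P : Subgroup ↥(centralizer ({u} : Set G))).map (centralizer ({u} : Set G)).subtype,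
        y * z * y⁻¹ = z ∨ y * z * y⁻¹ = z * u := by
  haveI : Fact (Nat.Prime 2) := ⟨Nat.prime_two⟩
  haveI := hB.klein
  set Cu := centralizer ({u} : Set G)
  set T := (S : Subgroup G) ⊓ Cu with hTdef
  have hTi : T.relIndex (S : Subgroup G) = 2 :=
    (hB.index_or hzU (ne_one_of_two hz) hzc hu).resolve_left fun h => by
      rcases huniq u (hB.le hu) (sq_of_klein hu) (fun y hy => mul_inv_eq_iff_eq_mul.1 (h y hy)) with e | e
      exacts [hu1 e, huz e]
  obtain ⟨P, hP⟩ := ((S.2.to_le (inf_le_left : T ≤ S)).comap_subtype (K := Cu)).exists_le_sylow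
  have hTP : ∀ x ∈ T, x ∈ (P : Subgroup Cu).map Cu.subtype := fun x hx =>
    ⟨⟨x, hx.2⟩, hP (show (⟨x, hx.2⟩ : Cu) ∈ T.subgroupOf Cu from hx), rfl⟩
  refine ⟨P, hTP, fun y hy => ?_⟩
  set P' := (P : Subgroup Cu).map Cu.subtype with hP'
  have hTU : U ≤ T := fun x hx => ⟨hB.le hx, mem_centralizer_singleton_iff.2 (comm_of_klein x hx u hu)⟩
  -- the central involutions of `T` lie in `U`
  have hcen : ∀ x ∈ T, x * x = 1 → (∀ w ∈ T, w * x = x * w) → x ∈ U := by
    intro x hx hxx hxc
    obtain ⟨a, ha, hab⟩ := Subgroup.relIndex_eq_two_iff.1 hTi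
    have haT : a ∉ T := by
      rcases hab 1 (one_mem _) with ⟨-, h⟩ | ⟨-, h⟩
      · exact absurd (one_mem T) h
      · rwa [one_mul] at h
    have haa : a * a ∈ T := by
      rcases hab a ha with ⟨h, -⟩ | ⟨h, -⟩
      exacts [h, absurd h haT]
    -- a central involution fixed by `a` is `1` or `z`
    have hfix : ∀ w ∈ T, w * w = 1 → (∀ v ∈ T, v * w = w * v) → a * w = w * a → w = 1 ∨ w = z := by
      intro w hw hww hwc hwa
      refine huniq w hw.1 hww fun y hy => ?_
      rcases hab y hy with ⟨h, -⟩ | ⟨h, -⟩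
      · exact (show Commute y w by
          have hh := (show Commute (y * a) w from hwc _ h).mul_left ((show Commute a w from hwa).inv_left)
          rwa [mul_inv_cancel_right] at hh).eq
      · exact hwc y h
    have haT' : ∀ w ∈ T, a * w * a⁻¹ ∈ T := by
      haveI : (T.subgroupOf (S : Subgroup G)).Normal :=
        Subgroup.normal_of_index_eq_two (by rwa [← relIndex])
      intro w hw
      exact ((inferInstance : (T.subgroupOf (S : Subgroup G)).Normal).conj_mem ⟨w, hw.1⟩
        (mem_subgroupOf.2 hw) ⟨a, ha⟩ :)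
    have hainv : ∀ w ∈ T, a⁻¹ * w * a ∈ T := fun w hw => by
      have h := haT' _ (mul_mem (mul_mem (inv_mem haa) hw) haa)
      rwa [show a * ((a * a)⁻¹ * w * (a * a)) * a⁻¹ = a⁻¹ * w * a by group] at h
    set x' := a * x * a⁻¹ with hx'
    have hx'c : ∀ w ∈ T, w * x' = x' * w := fun w hw => by
      have h := hxc _ (hainv w hw)
      calc w * x' = a * ((a⁻¹ * w * a) * x) * a⁻¹ := by rw [hx']; group
        _ = a * (x * (a⁻¹ * w * a)) * a⁻¹ := by rw [h]
        _ = x' * w := by rw [hx']; group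
    have hxx' : x' * x' = 1 := by
      rw [hx', show a * x * a⁻¹ * (a * x * a⁻¹) = a * (x * x) * a⁻¹ by group, hxx, mul_one, mul_inv_cancel]
    have hax' : a * x' * a⁻¹ = x := by
      rw [hx', show a * (a * x * a⁻¹) * a⁻¹ = a * a * x * (a * a)⁻¹ by group, hxc _ haa, mul_inv_cancel_right]
    have hc' : Commute x x' := (hxc x' (haT' x hx)).symm
    have hprod : a * (x * x') = (x * x') * a := by
      refine mul_inv_eq_iff_eq_mul.1 ?_
      rw [show a * (x * x') * a⁻¹ = (a * x * a⁻¹) * (a * x' * a⁻¹) by group, hax', ← hx']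
      exact hc'.eq.symm
    rcases hfix (x * x') (mul_mem hx (haT' x hx))
      (by rw [hc'.symm.mul_mul_mul_comm, hxx, hxx', one_mul])
      (fun v hv => (Commute.mul_right (hxc v hv) (hx'c v hv)).eq) hprod with e | e
    · have hxa : a * x = x * a := mul_inv_eq_iff_eq_mul.1 (by
        rw [← hx']; exact (inv_eq_of_mul_eq_one_right e).symm.trans (inv_eq_of_mul_eq_one_right hxx))
      rcases hfix x hx hxx hxc hxa with rfl | rfl
      exacts [one_mem U, hzU]
    · have hx'e : x' = x * z := by rw [← e, ← mul_assoc, hxx, one_mul]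
      have hau : a * u * a⁻¹ = u * z := (hB.comm_or hzU (ne_one_of_two hz) hzc ha hu).resolve_left fun h =>
        haT ⟨ha, mem_centralizer_singleton_iff.2 (mul_inv_eq_iff_eq_mul.1 h)⟩
      have hcu : Commute x u := (hxc u (hTU hu)).symm
      have hxu : a * (x * u) = (x * u) * a := by
        refine mul_inv_eq_iff_eq_mul.1 ?_
        have hzu : z * u = u * z := comm_of_klein z hzU u hu
        rw [show a * (x * u) * a⁻¹ = (a * x * a⁻¹) * (a * u * a⁻¹) by group, ← hx', hx'e, hau,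
          show x * z * (u * z) = x * (z * u) * z by group, hzu, ← mul_assoc, mul_assoc, sq_of_klein hzU, mul_one]
      have hmem : x * u ∈ U := by
        rcases hfix (x * u) (mul_mem hx (hTU hu))
          (by rw [hcu.symm.mul_mul_mul_comm, hxx, sq_of_klein hu, one_mul])
          (fun v hv => (Commute.mul_right (hxc v hv)
            (show Commute v u from mem_centralizer_singleton_iff.1 hv.2)).eq) hxu with e' | e'
        · rw [e']; exact one_mem U
        · rw [e']; exact hzU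
      simpa [mul_assoc, sq_of_klein hu] using mul_mem hmem hu
  have hTP' : T ≤ P' := hTP
  have hyu : y * u = u * y := mem_centralizer_singleton_iff.1 ((map_subtype_le _) hy)
  have hzT : z ∈ T := hTU hzU
  have hn : y * z * y⁻¹ ∈ U := by
    by_cases heq : P' = T
    · exact hB.normal y (heq ▸ hy : y ∈ T).1 z hzU
    -- `T` has index two in `P'`
    obtain ⟨R, hR⟩ := (show IsPGroup 2 P' from P.2.map _).exists_le_sylow
    have hR2 : Nat.card (R : Subgroup G) = Nat.card (S : Subgroup G) := by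
      rw [R.card_eq_multiplicity, S.card_eq_multiplicity]
    have hS2 : Nat.card T * 2 = Nat.card (S : Subgroup G) := by
      have h := Subgroup.relIndex_mul_relIndex ⊥ T (S : Subgroup G) bot_le inf_le_left
      simpa only [relIndex_bot_left, hTi] using h
    have h1 := card_le_of_le hR
    have h2 := Subgroup.relIndex_mul_relIndex ⊥ T P' bot_le hTP'
    simp only [relIndex_bot_left] at h2
    have h3' : T.relIndex P' ≠ 1 := fun h => heq (le_antisymm (Subgroup.relIndex_eq_one.1 h) hTP')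
    have h4 : T.relIndex P' ≠ 0 := Subgroup.index_ne_zero_of_finite
    have h5 : T.relIndex P' ≤ 2 := by
      have : Nat.card T * T.relIndex P' ≤ Nat.card T * 2 := by rw [h2, hS2, ← hR2]; exact h1
      exact Nat.le_of_mul_le_mul_left this Nat.card_pos
    haveI : (T.subgroupOf P').Normal :=
      Subgroup.normal_of_index_eq_two (show T.relIndex P' = 2 by omega)
    have hyn := (normal_subgroupOf_iff_le_normalizer hTP').1 inferInstance hy
    have hTz : ∀ w ∈ T, w * z = z * w := fun w hw => hzc w hw.1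
    refine hcen _ ((mem_normalizer_iff.1 hyn z).1 hzT) ?_ fun w hw => ?_
    · rw [show y * z * y⁻¹ * (y * z * y⁻¹) = y * (z * z) * y⁻¹ by group, sq_of_klein hzU, mul_one, mul_inv_cancel]
    · have h := hTz _ ((mem_normalizer_iff''.1 hyn w).1 hw)
      calc w * (y * z * y⁻¹) = y * ((y⁻¹ * w * y) * z) * y⁻¹ := by group
        _ = y * (z * (y⁻¹ * w * y)) * y⁻¹ := by rw [h]
        _ = y * z * y⁻¹ * w := by group
  rcases klein_cases hB.klein hzU hu (ne_one_of_two hz) hu1 (Ne.symm huz) hn with e | e | e | e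
  · exact absurd (conj_eq_one_iff.1 e) (ne_one_of_two hz)
  · exact Or.inl e
  · refine absurd ?_ huz
    rw [mul_inv_eq_iff_eq_mul, ← hyu] at e
    exact (mul_left_cancel e).symm
  · exact Or.inr e

/-- a conjugate of the closure with the same unique central involution is the same -/
theorem cl_conj_eq_of_unique {z : G} (hzU : z ∈ U) (hz : orderOf z = 2)
    (hzc : ∀ y ∈ (S : Subgroup G), y * z = z * y)
    (huniq : ∀ x ∈ (S : Subgroup G), x * x = 1 → (∀ y ∈ (S : Subgroup G), y * x = x * y) → x = 1 ∨ x = z)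
    {g : G} (hgz : g * z * g⁻¹ = z) (hgU : FourConn.conjBy g U ≤ (S : Subgroup G)) :
    g ∈ normalizer (Cl U : Set G) := by
  haveI : Fact (Nat.Prime 2) := ⟨Nat.prime_two⟩
  haveI := hB.klein
  obtain ⟨A, hAS, hA, hA8, hUA, -⟩ := hB.exists_eight_of_comm (one_mem _) (one_mul 1)
    (fun b _ => by rw [one_mul, mul_one]) h3
  set W' := Cl (FourConn.conjBy g U) with hW'
  have hW'A : W' = Cl (FourConn.conjBy g A) := Cl_eight hc (elementary_conj g hA) (hA8.trans (card_conjBy g A).ge)
    (klein_conj g hB.klein) (Subgroup.map_mono hUA)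
  have hW'odd : Odd (Nat.card W') := hW'A ▸ odd_cl hc (elementary_conj g hA) (hA8.trans (card_conjBy g A).ge)
  have hWz : W' ⊓ centralizer ({z} : Set G) ≤ Cfsg.centralizerPPrimeCore 2 z := by
    rw [hW'A]
    exact cl_inf_centralizer_le hc (elementary_conj g hA) (hA8.trans (card_conjBy g A).ge)
      ⟨z, hUA hzU, hgz⟩ (ne_one_of_two hz)
  -- `U` normalises the conjugate four-subgroup
  have hUn : U ≤ normalizer (W' : Set G) := by
    intro v hv
    refine Cfsg.Lib.Transfer.map_conj_eq_self_iff.1 ?_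
    rw [← FourConn.conjBy, hW', ← Cl_conj]
    congr 1
    refine eq_of_le_of_card_ge ?_ (card_conjBy v _).ge
    rintro _ ⟨w, hw, rfl⟩
    show v * w * v⁻¹ ∈ FourConn.conjBy g U
    have hzz := sq_of_klein hzU
    have hvv : v⁻¹ = v := inv_eq_of_mul_eq_one_right (sq_of_klein hv)
    rcases hB.comm_or hzU (ne_one_of_two hz) hzc (hgU hw) hv with e | e
    · rw [show v * w * v⁻¹ = w by rw [← mul_inv_eq_iff_eq_mul.1 e, mul_inv_cancel_right]]
      exact hw
    · have hzg : z ∈ FourConn.conjBy g U := ⟨z, hzU, hgz⟩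
      rw [show v * w * v⁻¹ = w * z by
        rw [mul_inv_eq_iff_eq_mul] at e
        rw [hvv, show v * w * v = v * (w * v) by group, e, show v * (v * z * w) = v * v * (z * w) by group,
          sq_of_klein hv, one_mul, hzc w (hgU hw)]]
      exact mul_mem hw hzg
  have key : ∀ b ∈ U, b ≠ 1 → W' ⊓ centralizer ({b} : Set G) ≤ Cfsg.centralizerPPrimeCore 2 b := by
    intro b hb hb1
    by_cases hbz : b = z
    · rw [hbz]; exact hWz
    have hbo : orderOf b = 2 := orderOf_eq_prime (by rw [pow_two]; exact sq_of_klein hb) hb1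
    intro x hx
    set Cb := centralizer ({b} : Set G) with hCb
    obtain ⟨P, hP, hPz⟩ : ∃ P : Sylow 2 ↥Cb,
        (∀ x ∈ (S : Subgroup G) ⊓ Cb, x ∈ (P : Subgroup Cb).map Cb.subtype) ∧
        ∀ y ∈ (P : Subgroup Cb).map Cb.subtype, y * z * y⁻¹ = z ∨ y * z * y⁻¹ = z * b :=
      exists_sylow_centralizer hc S U hB h3 hzU hz hzc huniq hb hb1 hbz
    have hzCb : z ∈ Cb := mem_centralizer_singleton_iff.2 (comm_of_klein z hzU b hb)
    have hzP : (⟨z, hzCb⟩ : Cb) ∈ (P : Subgroup Cb) := by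
      obtain ⟨z', hz', e⟩ := hP z ⟨hB.le hzU, hzCb⟩
      rw [show (⟨z, hzCb⟩ : Cb) = z' from Subtype.ext e.symm]
      exact hz'
    have hbc : (⟨b, mem_centralizer_singleton_iff.2 rfl⟩ : Cb) ∈ center Cb := mem_center_iff.2 fun y =>
      Subtype.ext (mem_centralizer_singleton_iff.1 y.2)
    have hzb := map_mem_pCore_of_stab (pLayer_centralizer_of_nonComponent hc hbo) P hbc
      (Subtype.ext (sq_of_klein hb)) hzP fun y hy => by
        rcases hPz y ⟨y, hy, rfl⟩ with e | e
        · exact Or.inl (Subtype.ext e)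
        · exact Or.inr (Subtype.ext e)
    set c := z * x * z⁻¹ * x⁻¹ with hcdef
    have hzW : z ∈ normalizer (W' : Set G) := hUn hzU
    have hcW : c ∈ W' := mul_mem ((mem_normalizer_iff.1 hzW x).1 hx.1) (inv_mem hx.1)
    have hcC : c ∈ Cb := mul_mem (mul_mem (mul_mem hzCb hx.2) (inv_mem hzCb)) (inv_mem hx.2)
    have hcodd : Odd (orderOf c) := hW'odd.of_dvd_nat (Subgroup.orderOf_dvd_natCard W' hcW)
    have hcO : c ∈ Cfsg.centralizerPPrimeCore 2 b := by
      refine ⟨⟨c, hcC⟩, ?_, rfl⟩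
      show (⟨c, hcC⟩ : Cb) ∈ Cfsg.oddCore Cb
      rw [← QuotientGroup.ker_mk' (Cfsg.oddCore Cb), MonoidHom.mem_ker]
      set q := QuotientGroup.mk' (Cfsg.oddCore Cb)
      haveI : (Cfsg.pCore 2 (Cb ⧸ Cfsg.oddCore Cb)).Normal := pCore_normal' 2
      have hmem : q ⟨c, hcC⟩ ∈ Cfsg.pCore 2 (Cb ⧸ Cfsg.oddCore Cb) := by
        rw [show (⟨c, hcC⟩ : Cb) = ⟨z, hzCb⟩ * (⟨x, hx.2⟩ * ⟨z, hzCb⟩⁻¹ * ⟨x, hx.2⟩⁻¹) from
          Subtype.ext (by simp [hcdef, mul_assoc]), map_mul, map_mul, map_mul, map_inv, map_inv]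
        exact mul_mem hzb ((inferInstance : (Cfsg.pCore 2 (Cb ⧸ Cfsg.oddCore Cb)).Normal).conj_mem _
          (inv_mem hzb) _)
      obtain ⟨j, hj⟩ := IsPGroup.iff_orderOf.1 (isPGroup_pCore (G := Cb ⧸ Cfsg.oddCore Cb) 2) ⟨_, hmem⟩
      rw [Subgroup.orderOf_mk] at hj
      have hd := orderOf_map_dvd q (⟨c, hcC⟩ : Cb)
      rw [Subgroup.orderOf_mk, hj] at hd
      exact orderOf_eq_one_iff.1 (hj.trans (Nat.eq_one_of_dvd_coprimes
        ((Nat.coprime_two_left.2 hcodd).pow_left j) dvd_rfl hd))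
    -- halve the commutator
    have hzi : z⁻¹ = z := inv_eq_of_mul_eq_one_right (sq_of_klein hzU)
    have hzcz : z * c * z⁻¹ = c⁻¹ := by
      calc z * c * z⁻¹ = (z * z) * x * z⁻¹ * x⁻¹ * z⁻¹ := by rw [hcdef]; group
        _ = c⁻¹ := by rw [hcdef, sq_of_klein hzU]; simp [hzi, mul_assoc]
    obtain ⟨n, hn⟩ := hcodd
    set d := c ^ (n + 1) with hd
    have hd2 : d * d = c := by
      rw [hd, ← pow_add, show n + 1 + (n + 1) = orderOf c + 1 by omega, pow_succ, pow_orderOf_eq_one, one_mul]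
    have hzd : z * d * z⁻¹ = d⁻¹ := by rw [hd, ← conj_pow, hzcz, inv_pow]
    have hdO : d ∈ Cfsg.centralizerPPrimeCore 2 b := pow_mem hcO _
    have he : z * (d * x) * z⁻¹ = d * x := by
      calc z * (d * x) * z⁻¹ = (z * d * z⁻¹) * (z * x * z⁻¹) := by group
        _ = d⁻¹ * (c * x) := by rw [hzd, hcdef]; group
        _ = d⁻¹ * (d * d * x) := by rw [hd2]
        _ = d * x := by group
    have he1 : d * x ∈ W' ⊓ centralizer ({z} : Set G) :=
      ⟨mul_mem (pow_mem hcW _) hx.1, mem_centralizer_singleton_iff.2 (mul_inv_eq_iff_eq_mul.1 he).symm⟩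
    have he2 : d * x ∈ Cfsg.centralizerPPrimeCore 2 b := balance_of_nonComponent hc hz hbo
      (comm_of_klein z hzU b hb) ⟨hWz he1, mul_mem (pow_mem hcC _) hx.2⟩
    simpa using mul_mem (inv_mem hdO) he2
  have hle : W' ≤ Cl U := by
    rw [Cfsg.Agent.S1324.result 2 U W' (elementary_of_klein hB.klein) (card_klein hB.klein).ge
      hW'odd.not_two_dvd_nat hUn]
    refine iSup_le fun B => ?_
    obtain ⟨b, hb, hb1⟩ : ∃ b ∈ (B : Subgroup G), b ≠ 1 := by
      by_contra h
      push Not at h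
      have h1 := B.2.2
      rw [(Subgroup.eq_bot_iff_forall _).2 h, relIndex_bot_left, card_klein hB.klein] at h1
      omega
    refine le_trans ?_ ((key b (B.2.1 hb) hb1).trans
      (le_iSup (fun e : {e : G // e ∈ U ∧ e ≠ 1} => Cfsg.centralizerPPrimeCore 2 e.1) ⟨b, B.2.1 hb, hb1⟩))
    exact inf_le_inf_left _ (centralizer_le (Set.singleton_subset_iff.2 hb))
  refine Cfsg.Lib.Transfer.map_conj_eq_self_iff.1 ?_
  rw [← FourConn.conjBy]
  refine eq_of_le_of_card_ge ?_ (card_conjBy g (Cl U)).ge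
  rw [← Cl_conj]; exact hle

/-- involutions of order-eight subgroups of `S` -/
theorem centralizer_le_of_eight_sylow {A : Subgroup G} {t : G} (hA : Cfsg.IsElementaryAbelian 2 A)
    (hA8 : 8 ≤ Nat.card A) (htA : t ∈ A) (ht : orderOf t = 2) (P : Sylow 2 ↥(centralizer ({t} : Set G)))
    (hAP : A ≤ (P : Subgroup ↥(centralizer ({t} : Set G))).map (centralizer ({t} : Set G)).subtype)
    (hPS : (P : Subgroup ↥(centralizer ({t} : Set G))).map (centralizer ({t} : Set G)).subtype ≤ (S : Subgroup G)) :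
    centralizer ({t} : Set G) ≤ normalizer (Cl U : Set G) := by
  haveI : Fact (Nat.Prime 2) := ⟨Nat.prime_two⟩
  set P' := (P : Subgroup (centralizer ({t} : Set G))).map (centralizer ({t} : Set G)).subtype with hP'
  set N := normalizer (Cl U : Set G) with hN
  have hAS : A ≤ (S : Subgroup G) := hAP.trans hPS
  have hAC : A ≤ (centralizer ({t} : Set G)) := hAP.trans (map_subtype_le _)
  have htt := sq_of_two ht
  obtain ⟨V, hV, hVA⟩ := exists_klein_le hA (by omega)
  have hθ : Cfsg.centralizerPPrimeCore 2 t ≤ N := by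
    refine le_trans ?_ le_normalizer
    rw [← cl_in_sylow hc S U hB hAS hA hA8 hV hVA, Cl_eight hc hA hA8 hV hVA]
    exact le_iSup (fun e : {e : G // e ∈ A ∧ e ≠ 1} => Cfsg.centralizerPPrimeCore 2 e.1)
      ⟨t, htA, ne_one_of_two ht⟩
  have htop : N.subgroupOf (centralizer ({t} : Set G)) = ⊤ := by
    refine eq_top_of_constrained_core (pLayer_centralizer_of_nonComponent hc ht) P
      (A := A.subgroupOf (centralizer ({t} : Set G))) ⟨⟨⟨fun x y => Subtype.ext (Subtype.ext
        (comm_elementary hA (mem_subgroupOf.1 x.2) (mem_subgroupOf.1 y.2)))⟩⟩,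
        fun x hx => Subtype.ext (by rw [Subgroup.coe_pow]; exact hA.2 _ (mem_subgroupOf.1 hx))⟩
      (by rw [Nat.card_congr (subgroupOfEquivOfLe hAC).toEquiv]; exact hA8) ?_ ?_ ?_
    · exact fun x hx => mem_subgroupOf.2 (hθ ⟨x, hx, rfl⟩)
    · exact fun x hx => mem_subgroupOf.2 (sylow_le_norm S U hB (hPS ⟨x, hx, rfl⟩))
    rintro Q hQP ⟨V', hV', hV'Q⟩ hQ g hg
    refine mem_subgroupOf.2 ?_
    have hQS : ∀ x ∈ Q.map (centralizer ({t} : Set G)).subtype, x ∈ (S : Subgroup G) := fun x hx => hPS (Subgroup.map_mono hQP hx)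
    have hQg : ∀ x ∈ Q.map (centralizer ({t} : Set G)).subtype, (g : G) * x * (g : G)⁻¹ ∈ Q.map (centralizer ({t} : Set G)).subtype := by
      rintro _ ⟨x, hx, rfl⟩
      exact ⟨g * x * g⁻¹, (mem_normalizer_iff.1 hg x).1 hx, rfl⟩
    by_cases hsecond : ∃ z' ∈ (S : Subgroup G), z' * z' = 1 ∧ z' ≠ 1 ∧ z' ≠ t ∧
        ∀ y ∈ (S : Subgroup G), y * z' = z' * y
    · -- every four-subgroup of `P` has the closure of `U`
      obtain ⟨z', hz'S, hz'z', hz'1, hz't, hz'c⟩ := hsecond
      have hall : ∀ X : Subgroup G, IsKleinFour X → X ≤ P' → Cl X = Cl U := by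
        intro X hX hXP
        have hXS := hXP.trans hPS
        by_cases htX : t ∈ X
        · by_cases hzX : z' ∈ X
          · -- `X` lies in `A ⟨z'⟩`
            have hAz := Cfsg.Lib.Sft.elementary_sup (p := 2) hA (elementary_zpowers hz'z')
              (fun a ha b hb => by
                obtain ⟨k, rfl⟩ := mem_zpowers_iff.1 hb
                exact (Commute.zpow_right (show Commute a z' from hz'c a (hAS ha)) k).eq)
            refine cl_in_sylow hc S U hB (sup_le hAS (zpowers_le.2 hz'S)) hAz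
              (hA8.trans (card_le_of_le le_sup_left)) hX fun x hx => ?_
            rcases klein_cases hX htX hzX (ne_one_of_two ht) hz'1 hz't.symm hx with e | e | e | e <;> rw [e]
            · exact one_mem _
            · exact le_sup_left (b := zpowers z') htA
            · exact le_sup_right (a := A) (mem_zpowers z')
            · exact mul_mem (le_sup_left (b := zpowers z') htA) (le_sup_right (a := A) (mem_zpowers z'))
          · obtain ⟨h1, h2⟩ := eight_sup hX (elementary_zpowers hz'z')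
              (fun a ha b hb => by
                obtain ⟨k, rfl⟩ := mem_zpowers_iff.1 hb
                exact (Commute.zpow_right (show Commute a z' from hz'c a (hXS ha)) k).eq)
              (fun h => hzX (h (mem_zpowers z')))
            exact cl_in_sylow hc S U hB (sup_le hXS (zpowers_le.2 hz'S)) h1 h2 hX le_sup_left
        · obtain ⟨h1, h2⟩ := eight_sup hX (elementary_zpowers htt)
            (fun a ha b hb => by
              obtain ⟨k, rfl⟩ := mem_zpowers_iff.1 hb
              exact (Commute.zpow_right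
                (show Commute a t from mem_centralizer_singleton_iff.1 (map_subtype_le _ (hXP ha))) k).eq)
            (fun h => htX (h (mem_zpowers t)))
          exact cl_in_sylow hc S U hB (sup_le hXS (zpowers_le.2 (hAS htA))) h1 h2 hX le_sup_left
      have hX1 : V'.map (centralizer ({t} : Set G)).subtype ≤ P' := Subgroup.map_mono (hV'Q.trans hQP)
      have hX := klein_map (centralizer ({t} : Set G)).subtype_injective hV'
      refine Cfsg.Lib.Transfer.map_conj_eq_self_iff.1 ?_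
      rw [← FourConn.conjBy]
      conv_lhs => rw [← hall _ hX hX1]
      rw [← Cl_conj]
      refine hall _ (klein_conj _ hX) ?_
      rintro _ ⟨x, hx, rfl⟩
      exact Subgroup.map_mono hQP (hQg x (Subgroup.map_mono hV'Q hx))
    · -- `t` is the only central involution
      push Not at hsecond
      obtain ⟨z, hzU, hz, hzc⟩ := hB.exists_z
      have hzt : z = t := by
        by_contra h
        obtain ⟨y, hy, hne⟩ := hsecond z (hB.le hzU) (sq_of_two hz) (ne_one_of_two hz) h
        exact hne (hzc y hy)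
      rw [hzt] at hzU hz hzc
      have huniq : ∀ x ∈ (S : Subgroup G), x * x = 1 → (∀ y ∈ (S : Subgroup G), y * x = x * y) → x = 1 ∨ x = t := by
        intro x hx hxx hxc
        by_contra h
        push Not at h
        obtain ⟨y, hy, hne⟩ := hsecond x hx hxx h.1 h.2
        exact hne (hxc y hy)
      have hSC : (S : Subgroup G) ≤ (centralizer ({t} : Set G)) := fun y hy => mem_centralizer_singleton_iff.2 (hzc y hy)
      have hSP : (S : Subgroup G) ≤ P' := by
        have h := P.is_maximal' (S.2.comap_subtype (K := (centralizer ({t} : Set G)))) fun x hx => hPS ⟨x, hx, rfl⟩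
        intro x hx
        exact ⟨⟨x, hSC hx⟩, h ▸ (show (⟨x, hSC hx⟩ : (centralizer ({t} : Set G))) ∈ (S : Subgroup G).subgroupOf (centralizer ({t} : Set G)) from hx), rfl⟩
      have hUQ : U ≤ Q.map (centralizer ({t} : Set G)).subtype := by
        intro v hv
        have hvC : v ∈ (centralizer ({t} : Set G)) := hSC (hB.le hv)
        refine ⟨⟨v, hvC⟩, hQ ⟨t, mem_centralizer_singleton_iff.2 rfl⟩
          (mem_center_iff.2 fun y => Subtype.ext (mem_centralizer_singleton_iff.1 y.2)) (Subtype.ext htt) _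
          ?_ fun y hy => ?_, rfl⟩
        · obtain ⟨v', hv', e⟩ := hSP (hB.le hv)
          rwa [show (⟨v, hvC⟩ : (centralizer ({t} : Set G))) = v' from Subtype.ext e.symm]
        · rcases hB.comm_or hzU (ne_one_of_two hz) hzc (hPS ⟨y, hy, rfl⟩) hv with e | e
          · exact Or.inl (Subtype.ext e)
          · exact Or.inr (Subtype.ext e)
      refine cl_conj_eq_of_unique hc S U hB h3 hzU hz hzc huniq ?_ ?_
      · rw [mem_centralizer_singleton_iff.1 g.2, mul_inv_cancel_right]
      · rintro _ ⟨v, hv, rfl⟩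
        exact hQS _ (hQg v (hUQ hv))
  exact subgroupOf_eq_top.1 htop

/-- involutions of order-eight subgroups of the normaliser -/
theorem centralizer_le_of_eight {A : Subgroup G} {t : G} (hA : Cfsg.IsElementaryAbelian 2 A)
    (hA8 : 8 ≤ Nat.card A) (hAN : A ≤ normalizer (Cl U : Set G)) (htA : t ∈ A) (ht : orderOf t = 2) :
    centralizer ({t} : Set G) ≤ normalizer (Cl U : Set G) := by
  haveI : Fact (Nat.Prime 2) := ⟨Nat.prime_two⟩
  set C := centralizer ({t} : Set G)
  have hAC : A ≤ C := fun a ha => mem_centralizer_singleton_iff.2 (comm_elementary hA ha htA)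
  obtain ⟨P, hP⟩ := ((isPGroup_elementary hA).comap_subtype (K := C)).exists_le_sylow
  have hAP : A ≤ (P : Subgroup C).map C.subtype := fun x hx =>
    ⟨⟨x, hAC hx⟩, hP (show (⟨x, hAC hx⟩ : C) ∈ A.subgroupOf C from hx), rfl⟩
  obtain ⟨R, hR⟩ := (P.2.map C.subtype).exists_le_sylow
  obtain ⟨g, rfl⟩ := MulAction.exists_smul_eq G S R
  have h := centralizer_le_of_eight_sylow hc (g • S) (FourConn.conjBy g U) (hB.smul g) h3 hA hA8 htA ht P hAP hR
  obtain ⟨V, hV, hVA⟩ := exists_klein_le hA (by omega)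
  rwa [← cl_in_sylow hc (g • S) _ (hB.smul g) (hAP.trans hR) hA hA8 hV hVA,
    cl_in_normalizer hc S U hB h3 hAN hA hA8 hV hVA] at h

end Cfsg.Lib.BenderSE.Thick
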