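/-
The dichotomy theorem: thin involutions by transfer, and the end step by Bender's theorem.
-/
import Cfsg.Agent.BenderSE.Thick.Closure
import Cfsg.Agent.BenderSE.Final

set_option autoImplicit false
set_option linter.unusedSectionVars false
set_option linter.style.haveILetI false

namespace Cfsg.Lib.BenderSE.Thick

open Subgroup Cfsg.Lib.Components Cfsg.Lib.Sft Cfsg.Lib.Misc.FourConnected Cfsg.Lib.BenderSE.FourConn
open scoped Pointwise

universe u

variable {G : Type u} [Group G] [Finite G]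

/-- an involution of `S` inducing on a central four-subgroup a transvection with fixed points `{1, z}` -/
theorem le_four_of_fixed {S : Sylow 2 G} {U T : Subgroup G} {t z : G} (hB : Base S U)
    (hTS : T ≤ (S : Subgroup G)) (hTn : (S : Subgroup G) ≤ normalizer (T : Set G))
    (hTU : ∀ x ∈ T, ∀ b ∈ U, x * b = b * x) (hUT : U ≤ T) (htS : t ∈ (S : Subgroup G)) (htt : t * t = 1)
    (hzU : z ∈ U) (hz1 : z ≠ 1) {u : G} (hu : u ∈ U) (htu : t * u * t⁻¹ = u * z) (htz : t * z = z * t)
    (hfix : ∀ x ∈ T, x * t = t * x → x = 1 ∨ x = z) : T ≤ U := by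
  haveI : Fact (Nat.Prime 2) := ⟨Nat.prime_two⟩
  haveI := hB.klein
  have hti : t⁻¹ = t := inv_eq_of_mul_eq_one_right htt
  -- elements moved into `U`
  have hY : ∀ x ∈ T, t * x * t⁻¹ * x⁻¹ ∈ U → x ∈ U := by
    intro x hx hc
    set c := t * x * t⁻¹ * x⁻¹ with hcdef
    have hcc : t * c = c * t := by
      have h1 : t * c * t⁻¹ = c⁻¹ := by rw [hcdef, hti]; simp [mul_assoc, hti, ← mul_assoc t t, htt]
      rw [inv_eq_of_mul_eq_one_right (sq_of_klein hc)] at h1
      exact mul_inv_eq_iff_eq_mul.1 h1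
    rcases hfix c (hUT hc) hcc.symm with e | e
    · have hxt : x * t = t * x := by
        rw [hcdef, mul_inv_eq_one, mul_inv_eq_iff_eq_mul] at e
        exact e.symm
      rcases hfix x hx hxt with rfl | rfl
      exacts [one_mem U, hzU]
    · have htx : t * x * t⁻¹ = z * x := mul_inv_eq_iff_eq_mul.1 e
      have hxu : (x * u) * t = t * (x * u) := by
        refine (mul_inv_eq_iff_eq_mul.1 ?_).symm
        rw [show t * (x * u) * t⁻¹ = (t * x * t⁻¹) * (t * u * t⁻¹) by group, htx, htu, ← hTU x hx z hzU,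
          show x * z * (u * z) = x * (z * u) * z by group, comm_of_klein z hzU u hu, ← mul_assoc,
          mul_assoc, sq_of_klein hzU, mul_one]
      have hmem : x * u ∈ U := by
        rcases hfix (x * u) (mul_mem hx (hUT hu)) hxu with e' | e'
        · rw [e']; exact one_mem U
        · rw [e']; exact hzU
      simpa [mul_assoc, sq_of_klein hu] using mul_mem hmem hu
  by_contra hle
  haveI : (U.subgroupOf (S : Subgroup G)).Normal :=
    ⟨fun v hv y => mem_subgroupOf.2 (hB.normal y y.2 v (mem_subgroupOf.1 hv))⟩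
  haveI : (T.subgroupOf (S : Subgroup G)).Normal := (normal_subgroupOf_iff_le_normalizer hTS).2 hTn
  set π := QuotientGroup.mk' (U.subgroupOf (S : Subgroup G))
  haveI : ((T.subgroupOf (S : Subgroup G)).map π).Normal :=
    (inferInstance : (T.subgroupOf (S : Subgroup G)).Normal).map π (QuotientGroup.mk'_surjective _)
  have hne : (T.subgroupOf (S : Subgroup G)).map π ≠ ⊥ := fun h => hle fun x hx => by
    have := (Subgroup.eq_bot_iff_forall _).1 h (π ⟨x, hTS hx⟩) ⟨⟨x, hTS hx⟩, hx, rfl⟩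
    exact mem_subgroupOf.1 ((QuotientGroup.eq_one_iff _).1 this)
  obtain ⟨w, hw, hwc, hwo⟩ := Cfsg.Lib.PGroups.exists_mem_center_of_normal_ne_bot
    (S.2.to_quotient (U.subgroupOf (S : Subgroup G))) hne
  obtain ⟨x, hx, rfl⟩ := hw
  have hxU : (x : G) ∈ U := by
    refine hY x (mem_subgroupOf.1 hx) ?_
    have h := (mem_center_iff.1 hwc (π ⟨t, htS⟩))
    have h1 : π (⟨t, htS⟩ * x * ⟨t, htS⟩⁻¹ * x⁻¹) = 1 := by
      rw [map_mul, map_mul, map_mul, map_inv, map_inv, h, mul_inv_cancel_right, mul_inv_cancel]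
    exact mem_subgroupOf.1 ((QuotientGroup.eq_one_iff _).1 h1)
  rw [show π x = 1 from (QuotientGroup.eq_one_iff _).2 (mem_subgroupOf.2 hxU), orderOf_one] at hwo
  omega

variable (hc : ¬ Cfsg.IsComponentType G) (hno : ∀ N : Subgroup G, N.Normal → N.index ≠ 2)
  (S : Sylow 2 G) (U : Subgroup G) (hB : Base S U) (h3 : ¬ Cfsg.PRankLE 2 2 G)

include hno hB h3

omit hno in
theorem exists_conj_eight (hno' : ∀ N : Subgroup G, N.Normal → N.index ≠ 2) {t : G} (ht : orderOf t = 2) :
    ∃ (g : G) (A : Subgroup G), A ≤ (S : Subgroup G) ∧ Cfsg.IsElementaryAbelian 2 A ∧ 8 ≤ Nat.card A ∧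
      g * t * g⁻¹ ∈ A := by
  haveI : Fact (Nat.Prime 2) := ⟨Nat.prime_two⟩
  haveI := hB.klein
  obtain ⟨z, hzU, hz, hzc⟩ := hB.exists_z
  obtain ⟨u, hu, hu1, huz⟩ := hB.exists_u (z := z)
  have hconj : ∀ h : G, h * t * h⁻¹ ∈ (S : Subgroup G) → h * t * h⁻¹ * u = u * (h * t * h⁻¹) →
      ∃ (g : G) (A : Subgroup G), A ≤ (S : Subgroup G) ∧ Cfsg.IsElementaryAbelian 2 A ∧ 8 ≤ Nat.card A ∧
        g * t * g⁻¹ ∈ A := by
    intro h hhS hhu
    obtain ⟨A, hAS, hA, hA8, -, htA⟩ := hB.exists_eight_of_comm hhS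
      (sq_of_two (by rw [orderOf_conj', ht])) (fun b hb => by
        rcases klein_cases hB.klein hu hzU hu1 (ne_one_of_two hz) huz hb with rfl | rfl | rfl | rfl
        · rw [mul_one, one_mul]
        · exact hhu
        · exact hzc _ hhS
        · exact Commute.mul_right hhu (hzc _ hhS)) h3
    exact ⟨h, A, hAS, hA, hA8, htA⟩
  rcases hB.index_or hzU (ne_one_of_two hz) hzc hu with h | h
  · obtain ⟨R, hR⟩ := (IsPGroup.of_card (n := 1) (by rw [pow_one, Nat.card_zpowers, ht]) :
      IsPGroup 2 (zpowers t)).exists_le_sylow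
    obtain ⟨g, rfl⟩ := MulAction.exists_smul_eq G S R
    obtain ⟨s, hs, hse⟩ := hR (mem_zpowers t)
    have hgs : g⁻¹ * t * g⁻¹⁻¹ = s := by rw [← hse]; simp [mul_assoc]
    exact hconj g⁻¹ (hgs ▸ hs) (hgs ▸ mul_inv_eq_iff_eq_mul.1 (h s hs))
  · obtain ⟨g, hg, -⟩ := exists_extremal_conj hno' S inf_le_left h ht
    exact hconj g hg.1 (mem_centralizer_singleton_iff.1 hg.2)

include hc

/-- every involution of `S` has centraliser in the normaliser of the closure -/
theorem centralizer_le_sylow {t : G} (ht : orderOf t = 2) (htS : t ∈ (S : Subgroup G)) :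
    centralizer ({t} : Set G) ≤ normalizer (Cl U : Set G) := by
  haveI : Fact (Nat.Prime 2) := ⟨Nat.prime_two⟩
  haveI := hB.klein
  set N := normalizer (Cl U : Set G) with hN
  have hSN : (S : Subgroup G) ≤ N := sylow_le_norm S U hB
  have htt := sq_of_two ht
  obtain ⟨z, hzU, hz, hzc⟩ := hB.exists_z
  obtain ⟨u, hu, hu1, huz⟩ := hB.exists_u (z := z)
  have hzu : z * u = u * z := comm_of_klein z hzU u hu
  set T := (S : Subgroup G) ⊓ centralizer ({u} : Set G) with hTdef
  have hTU : ∀ x ∈ T, ∀ b ∈ U, x * b = b * x := by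
    intro x hx b hb
    rcases klein_cases hB.klein hu hzU hu1 (ne_one_of_two hz) huz hb with rfl | rfl | rfl | rfl
    · rw [mul_one, one_mul]
    · exact mem_centralizer_singleton_iff.1 hx.2
    · exact hzc x hx.1
    · exact Commute.mul_right (mem_centralizer_singleton_iff.1 hx.2) (hzc x hx.1)
  by_cases htT : t ∈ T
  · obtain ⟨A, hAS, hA, hA8, -, htA⟩ := hB.exists_eight_of_comm htS htt (fun b hb => hTU t htT b hb) h3
    exact centralizer_le_of_eight hc S U hB h3 hA hA8 (hAS.trans hSN) htA ht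
  have hTi : T.relIndex (S : Subgroup G) = 2 :=
    (hB.index_or hzU (ne_one_of_two hz) hzc hu).resolve_left fun h =>
      htT ⟨htS, mem_centralizer_singleton_iff.2 (mul_inv_eq_iff_eq_mul.1 (h t htS))⟩
  have htu : t * u * t⁻¹ = u * z := (hB.comm_or hzU (ne_one_of_two hz) hzc htS hu).resolve_left fun h =>
    htT ⟨htS, mem_centralizer_singleton_iff.2 (mul_inv_eq_iff_eq_mul.1 h)⟩
  have hzT : z ∈ T := ⟨hB.le hzU, mem_centralizer_singleton_iff.2 hzu⟩
  have htne : t ≠ z := fun e => htT (e ▸ hzT)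
  by_cases hA : ∃ v ∈ T, v * t = t * v ∧ v * v = 1 ∧ v ≠ 1 ∧ v ≠ z
  · -- `t` lies in an elementary subgroup of order eight of `S`
    obtain ⟨v, hv, hvt, hvv, hv1, hvz⟩ := hA
    obtain ⟨Y, hY, htY, hzY, hYle⟩ := exists_klein htt (sq_of_two hz) (ne_one_of_two ht) (ne_one_of_two hz) htne
      (hzc t htS)
    have hvY : ¬ zpowers v ≤ Y := fun h => by
      rcases klein_cases hY htY hzY (ne_one_of_two ht) (ne_one_of_two hz) htne (h (mem_zpowers v)) with e | e | e | e
      · exact hv1 e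
      · exact htT (e ▸ hv)
      · exact hvz e
      · refine htT ?_
        have := mul_mem hv hzT
        rwa [e, mul_assoc, sq_of_two hz, mul_one] at this
    obtain ⟨h1, h2⟩ := eight_sup hY (elementary_zpowers hvv) (fun a ha b hb => by
      have hYv : Y ≤ centralizer ({v} : Set G) := hYle _ (mem_centralizer_singleton_iff.2 hvt.symm)
        (mem_centralizer_singleton_iff.2 (hzc v hv.1).symm)
      obtain ⟨k, rfl⟩ := mem_zpowers_iff.1 hb
      exact (Commute.zpow_right (show Commute a v from mem_centralizer_singleton_iff.1 (hYv ha)) k).eq) hvY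
    exact centralizer_le_of_eight hc S U hB h3 h1 h2
      (sup_le ((hYle _ htS (hB.le hzU)).trans hSN) (zpowers_le.2 (hSN hv.1)))
      (le_sup_left (b := zpowers v) htY) ht
  push Not at hA
  -- `z` is a square in the centraliser of `t`
  obtain ⟨v, hv, hvt, hvv⟩ : ∃ v ∈ T, v * t = t * v ∧ v * v ≠ 1 := by
    by_contra h
    push Not at h
    have hfix : ∀ x ∈ T, x * t = t * x → x = 1 ∨ x = z := fun x hx hxt =>
      or_iff_not_imp_left.2 fun hx1 => hA x hx hxt (h x hx hxt) hx1
    have hUT : U ≤ T := fun x hx => ⟨hB.le hx, mem_centralizer_singleton_iff.2 (comm_of_klein x hx u hu)⟩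
    have hTn : (S : Subgroup G) ≤ normalizer (T : Set G) := by
      haveI : (T.subgroupOf (S : Subgroup G)).Normal :=
        Subgroup.normal_of_index_eq_two (show T.relIndex (S : Subgroup G) = 2 from hTi)
      exact (normal_subgroupOf_iff_le_normalizer inf_le_left).1 inferInstance
    have hle := le_four_of_fixed hB inf_le_left hTn hTU hUT htS htt hzU (ne_one_of_two hz) hu htu
      (hzc t htS) hfix
    have hcard := Subgroup.relIndex_mul_relIndex ⊥ T (S : Subgroup G) bot_le inf_le_left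
    simp only [relIndex_bot_left, hTi] at hcard
    rw [show T = U from le_antisymm hle hUT, card_klein hB.klein] at hcard
    obtain ⟨E, hES, hE, hE8⟩ := exists_eight S h3
    have hES' : E = (S : Subgroup G) := eq_of_le_of_card_ge hES (by omega)
    have hcomm := comm_elementary hE (a := t) (b := u) (hES'.symm ▸ htS) (hES'.symm ▸ hB.le hu)
    exact htT ⟨htS, mem_centralizer_singleton_iff.2 hcomm⟩
  obtain ⟨j, hj⟩ := IsPGroup.iff_orderOf.1 (S.2.to_le (inf_le_left : T ≤ S)) ⟨v, hv⟩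
  rw [Subgroup.orderOf_mk] at hj
  obtain ⟨i, rfl⟩ : ∃ i, j = i + 2 := by
    refine ⟨j - 2, ?_⟩
    by_contra h
    refine hvv ?_
    rw [← pow_two]
    refine orderOf_dvd_iff_pow_eq_one.1 ?_
    rw [hj]
    exact (Nat.pow_dvd_pow_iff_le_right one_lt_two).2 (show j ≤ 1 by omega) |>.trans (by norm_num)
  set w := v ^ 2 ^ i with hw
  have hww : w * w = z := by
    have hw2 : w * w = v ^ 2 ^ (i + 1) := by rw [hw, ← pow_add, pow_succ]; congr 1; ring
    rw [hw2]
    refine hA _ (pow_mem hv _) (Commute.pow_left hvt _).eq ?_ fun e => ?_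
    · rw [← pow_add, ← two_mul, ← pow_succ', ← hj, pow_orderOf_eq_one]
    · have := orderOf_dvd_of_pow_eq_one e
      rw [hj, Nat.pow_dvd_pow_iff_le_right one_lt_two] at this
      omega
  obtain ⟨g, hgT, hgS⟩ := exists_extremal_conj hno S inf_le_left hTi ht
  -- the conjugate of `z` lies in `T`
  have hgw : g * w * g⁻¹ ∈ (S : Subgroup G) :=
    hgS w ⟨pow_mem hv.1 _, mem_centralizer_singleton_iff.2 (Commute.pow_left hvt _).eq⟩
  have hgzT : g * z * g⁻¹ ∈ T := by
    rw [← hww, show g * (w * w) * g⁻¹ = (g * w * g⁻¹) * (g * w * g⁻¹) by group]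
    have h := Subgroup.mul_self_mem_of_index_two (H := T.subgroupOf (S : Subgroup G))
      (show T.relIndex (S : Subgroup G) = 2 from hTi) ⟨_, hgw⟩
    exact mem_subgroupOf.1 h
  obtain ⟨A', hA'S, hA', hA'8, -, hzA'⟩ := hB.exists_eight_of_comm hgzT.1
    (sq_of_two (by rw [orderOf_conj', hz])) (fun b hb => hTU _ hgzT b hb) h3
  have hCz := centralizer_le_of_eight hc S U hB h3 hA' hA'8 (hA'S.trans hSN) hzA' (by rw [orderOf_conj', hz])
  have hgS' : FourConn.conjBy g (S : Subgroup G) ≤ N := by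
    rintro _ ⟨s, hs, rfl⟩
    refine hCz (mem_centralizer_singleton_iff.2 ?_)
    show MulAut.conj g s * MulAut.conj g z = MulAut.conj g z * MulAut.conj g s
    rw [← map_mul, ← map_mul, hzc s hs]
  obtain ⟨E, hES, hE, hE8⟩ := exists_eight S h3
  have hgN : g ∈ N := mem_of_eights hc S U hB h3 (hES.trans hSN) ((Subgroup.map_mono hES).trans hgS') hE hE8
  obtain ⟨A, hAS, hA'', hA8, -, htA⟩ := hB.exists_eight_of_comm hgT.1
    (sq_of_two (by rw [orderOf_conj', ht])) (fun b hb => hTU _ hgT b hb) h3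
  have hCt := centralizer_le_of_eight hc S U hB h3 hA'' hA8 (hAS.trans hSN) htA (by rw [orderOf_conj', ht])
  intro x hx
  have h : g * x * g⁻¹ ∈ N := by
    refine hCt (mem_centralizer_singleton_iff.2 ?_)
    show MulAut.conj g x * MulAut.conj g t = MulAut.conj g t * MulAut.conj g x
    rw [← map_mul, ← map_mul, mem_centralizer_singleton_iff.1 hx]
  simpa [mul_assoc] using mul_mem (mul_mem (inv_mem hgN) h) hgN

/-- the closure is trivial -/
theorem cl_eq_bot (hO : Cfsg.oddCore G = ⊥) : Cl U = ⊥ := by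
  haveI : Fact (Nat.Prime 2) := ⟨Nat.prime_two⟩
  haveI := hB.klein
  by_contra hW
  set N := normalizer (Cl U : Set G) with hN
  have hSN : (S : Subgroup G) ≤ N := sylow_le_norm S U hB
  have hgood : ∀ x : G, orderOf x = 2 → x ∈ N → centralizer ({x} : Set G) ≤ N := by
    intro x hx hxN
    obtain ⟨m, hm, hxm, -⟩ := SingleClass.exists_smul_ge S hSN
      (IsPGroup.of_card (n := 1) (by rw [pow_one, Nat.card_zpowers, hx]) : IsPGroup 2 (zpowers x))
      (zpowers_le.2 hxN)
    have h := centralizer_le_sylow hc hno (m • S) _ (hB.smul m) h3 hx (hxm (mem_zpowers x))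
    rwa [Cl_conj, show FourConn.conjBy m (Cl U) = Cl U from Cfsg.Lib.Transfer.map_conj_eq_self_iff.2 hm] at h
  have hM : Cfsg.IsStronglyEmbedded N := by
    refine ⟨fun htop => hW ?_, ?_, fun g hg => ?_⟩
    · haveI : (Cl U).Normal := normalizer_eq_top_iff.1 htop
      exact le_bot_iff.1 (hO ▸ le_pPrimeCore (Nat.coprime_two_right.2 (odd_base hc S U hB h3)))
    · have h := card_dvd_of_le (hB.le.trans hSN)
      rw [card_klein hB.klein] at h
      exact even_iff_two_dvd.2 ((by norm_num : 2 ∣ 4).trans h)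
    · rw [← Nat.not_even_iff_odd]
      intro hev
      obtain ⟨x, hx, hxo⟩ := Cfsg.Lib.StrongEmb.exists_involution_of_even hev
      obtain ⟨y, hy, rfl⟩ := hx.2
      have hyo : orderOf y = 2 := by rw [← hxo]; exact (orderOf_injective _ (MulAut.conj g).injective y).symm
      obtain ⟨k, A, hAS, hA, hA8, hkA⟩ := exists_conj_eight S U hB h3 hno hyo
      set A₀ := FourConn.conjBy k⁻¹ A
      have hyA : y ∈ A₀ := ⟨_, hkA, by simp [mul_assoc]⟩
      have hA₀ := elementary_conj k⁻¹ hA
      have hAy : A₀ ≤ centralizer ({y} : Set G) := fun a ha =>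
        mem_centralizer_singleton_iff.2 (comm_elementary hA₀ ha hyA)
      refine hg (mem_of_eights hc S U hB h3 (hAy.trans (hgood y hyo hy)) ?_ hA₀
        (hA8.trans (card_conjBy k⁻¹ A).ge))
      refine le_trans ?_ (hgood _ hxo hx.1)
      rintro _ ⟨a, ha, rfl⟩
      refine mem_centralizer_singleton_iff.2 ?_
      show MulAut.conj g a * MulAut.conj g y = MulAut.conj g y * MulAut.conj g a
      rw [← map_mul, ← map_mul, comm_elementary hA₀ ha hyA]
  have h2 : HasCommutingInvolutions G := by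
    obtain ⟨z, hzU, hz, -⟩ := hB.exists_z
    obtain ⟨u, hu, hu1, huz⟩ := hB.exists_u (z := z)
    exact ⟨z, u, hz, orderOf_eq_prime (by rw [pow_two]; exact sq_of_klein hu) hu1, huz.symm,
      comm_of_klein z hzU u hu⟩
  refine hW (le_bot_iff.1 (iSup_le fun e => le_of_eq (core_eq_bot_of_embedded regProp hM h2 hO ?_)))
  exact orderOf_eq_prime (by rw [pow_two]; exact sq_of_klein e.2.1) e.2.2

omit hB in
/-- THE DICHOTOMY: all cores are trivial -/
theorem core_eq_bot (hO : Cfsg.oddCore G = ⊥) {t : G} (ht : orderOf t = 2) :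
    Cfsg.centralizerPPrimeCore 2 t = ⊥ := by
  haveI : Fact (Nat.Prime 2) := ⟨Nat.prime_two⟩
  obtain ⟨S⟩ : Nonempty (Sylow 2 G) := inferInstance
  obtain ⟨U', hB'⟩ := exists_normal_base S h3
  obtain ⟨g, A, hAS, hA, hA8, hgA⟩ := exists_conj_eight S U' hB' h3 hno ht
  obtain ⟨V, hV, hVA⟩ := exists_klein_le hA (by omega)
  have h0 : Cfsg.centralizerPPrimeCore 2 (g * t * g⁻¹) = ⊥ := by
    rw [← le_bot_iff, ← cl_eq_bot hc hno S U' hB' h3 hO, ← cl_in_sylow hc S U' hB' hAS hA hA8 hV hVA,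
      Cl_eight hc hA hA8 hV hVA]
    exact le_iSup (fun e : {e : G // e ∈ A ∧ e ≠ 1} => Cfsg.centralizerPPrimeCore 2 e.1)
      ⟨g * t * g⁻¹, hgA, ne_one_of_two (by rw [orderOf_conj', ht])⟩
  rw [show g * t * g⁻¹ = MulAut.conj g t from rfl, ← centralizerPPrimeCore_map_equiv (MulAut.conj g) t,
    Subgroup.map_eq_bot_iff_of_injective _ (MulAut.conj g).injective] at h0
  exact h0

end Cfsg.Lib.BenderSE.Thick
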